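import Cfsg.Agent.H0.TC
set_option maxRecDepth 100000
namespace H0.TCM121
open H0
noncomputable def r0 : TC.WTr := (.node (.node (.node (.node (.node (.node (.leaf [0] 0 0 false) (.leaf [4] 4 0 false)) (.leaf [0, 4, 5, 3, 2, 0, 5] 28 3 false)) (.node (.node (.leaf [5, 6, 5, 1, 5, 6, 5] 27 0 false) (.leaf [3, 4] 7 2 false)) (.leaf [3] 3 0 false))) (.node (.node (.node (.leaf [5, 2, 0, 4, 5, 3, 2] 28 1 false) (.leaf [3, 5, 6, 5, 6, 5, 3] 15 2 false)) (.leaf [2, 0, 4, 0, 1] 24 2 false)) (.node (.node (.leaf [2] 1 0 false) (.leaf [6] 6 0 false)) (.leaf [6, 3] 7 1 false)))) (.node (.node (.node (.node (.leaf [5, 0, 3, 5, 6, 5, 0, 2] 29 2 false) (.leaf [2, 0, 1, 1, 1, 1, 1, 0, 1] 19 9 false)) (.leaf [1] 1 1 false)) (.node (.node (.leaf [2] 1 0 false) (.leaf [5, 1, 5, 6, 5, 1, 5] 27 2 false)) (.leaf [4] 4 0 false))) (.node (.node (.node (.leaf [4, 5, 3, 2, 0, 5, 2] 28 4 false) (.leaf [5]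 5 0 false)) (.leaf [6, 4] 7 2 true)) (.node (.leaf [6, 5, 4, 5, 1, 4] 25 2 false) (.leaf [4] 4 0 false))))) (.node (.node (.node (.node (.node (.leaf [2, 0, 1, 0, 2, 0, 1] 21 2 false) (.leaf [2, 0, 4, 5, 3, 2, 0] 28 2 false)) (.leaf [0, 2, 2, 2, 2, 2, 0, 1, 5] 19 1 true)) (.node (.node (.leaf [2] 1 0 false) (.leaf [4, 3] 7 0 true)) (.leaf [3] 3 0 false))) (.node (.node (.node (.leaf [4, 0, 1, 3, 2] 24 4 false) (.leaf [4, 5, 6, 1, 4, 2] 25 0 true)) (.leaf [4, 6] 7 0 false)) (.node (.node (.leaf [1] 1 1 false) (.leaf [6] 6 0 false)) (.leaf [0, 1, 3, 2, 0] 24 5 false)))) (.node (.node (.node (.node (.leaf [6, 0, 6] 23 0 false) (.leaf [6, 5, 2, 5, 6, 5, 2] 27 0 true)) (.leaf [1] 1 1 false)) (.node (.node (.leaf [2] 1 0 false) (.leaf [5, 4, 5, 1, 4, 2] 25 3 false)) (.leaf [1, 1, 0, 2, 2] 18 5 false))) (.node (.node (.node (.leaf [3, 5, 4, 0, 1, 5, 0] 28 7 true) (.leaf [6] 6 0 false))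 (.leaf [3] 3 0 false)) (.node (.leaf [0, 1, 1, 1, 1, 1, 0, 1, 5] 19 0 false) (.leaf [4] 4 0 false))))))
noncomputable def r1 : TC.WTr := (.node (.node (.node (.node (.node (.node (.leaf [2, 3, 1] 17 1 false) (.leaf [5] 5 0 false)) (.leaf [3, 1, 0] 17 2 false)) (.node (.node (.leaf [4, 2, 6, 5, 4, 5] 25 0 false) (.leaf [5, 2, 5, 6, 5, 2, 5] 27 1 true)) (.leaf [3] 3 0 false))) (.node (.node (.node (.leaf [2, 0, 5, 0, 3, 5, 6, 5] 29 0 false) (.leaf [1, 4, 2, 6, 5, 4] 25 6 false)) (.leaf [1, 0, 2] 17 3 false)) (.node (.node (.leaf [2] 1 0 false) (.leaf [6] 6 0 false)) (.leaf [5, 1, 4, 2, 6, 5] 25 5 false)))) (.node (.node (.node (.node (.leaf [1, 3, 5, 4, 0, 1, 5] 28 6 true) (.leaf [6, 5, 1, 5, 6, 5, 1] 27 1 false)) (.leaf [1] 1 1 false)) (.node (.node (.leaf [2] 1 0 false) (.leaf [5, 4, 5, 6, 5, 4, 5] 14 3 false)) (.leaf [2, 6, 5, 4, 5, 1] 25 1 false))) (.node (.node (.node (.leaf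 [2] 1 0 false) (.leaf [5] 5 0 false)) (.leaf [3] 3 0 false)) (.node (.leaf [2, 2, 2, 2, 2, 2, 2, 2, 2] 16 0 true) (.leaf [4] 4 0 false))))) (.node (.node (.node (.node (.node (.leaf [1, 0, 5, 6, 5, 3, 0, 5] 29 6 true) (.leaf [3, 2, 0, 5, 2, 0, 4] 28 6 false)) (.leaf [0, 4, 0, 1, 3] 24 3 false)) (.node (.node (.leaf [2] 1 0 false) (.leaf [5, 3, 5, 3, 5, 6, 5] 15 7 false)) (.leaf [3] 3 0 false))) (.node (.node (.node (.leaf [1, 4, 2, 0, 5, 4, 5] 26 0 false) (.leaf [5] 5 0 false)) (.leaf [5, 3, 5, 6, 5, 6, 5] 15 1 false)) (.node (.leaf [2, 2, 2, 0, 1, 5, 2, 0, 2] 19 4 true) (.leaf [0, 1, 5, 0, 1, 3, 5] 28 2 true)))) (.node (.node (.node (.node (.leaf [1, 3, 2, 0, 4] 24 0 false) (.leaf [1, 5, 6, 5, 1, 5, 6] 27 3 false)) (.leaf [3] 3 0 false)) (.node (.node (.leaf [2] 1 0 false) (.leaf [6] 6 0 false)) (.leaf [2, 0, 5, 4, 5, 0, 1] 26 2 false))) (.node (.node (.node (.leaf [0, 2, 3] 17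 0 false) (.leaf [0, 6, 0] 23 1 false)) (.leaf [3] 3 0 false)) (.node (.leaf [4, 1, 1, 0, 2] 18 4 false) (.leaf [4] 4 0 false))))))
noncomputable def tS : Tr := (.leaf (nat_lit 0xffeb304fc5f583169ba21affedd1ee3a04d8e784f248ffe4a58d2ef1388cd7a345ffebf04da3a486f3da8b1affef45a92081ee9bc4daeaffe4b04cc914e4e018c9deffe419bb8988588d14f48bffe4d1b942c13069d1f45dffea604b95529cc9dbd2bcffe9959d8fe542d384ba67ffeb1c4b2024c69ba489abffefbdd2c5d8bc259cf12ffff019d52054c4a444a9a8ffeae1463274c82555b1aaffe5884a2725f8b8e03a99ffeebdaa131416ec04a353ffe8fd74bdc472d4432a16ffe595d48f652a19561b81ffe3d03218c47cde1ee325ffea318ca4452c8c4322f4ffe7447017719818d37977ffe5d8fd86217e37d399ffffeaf16123c26c800311e4ffea555c1291bc189311e1ffe73c6ea2c44c370cf062ffe4a030a3e318a558d9e2ffe2ec6d8611e6954f397affef49bd0da1b2185190c5ffe5146c2031dc35c30233ffe6b46b1ad1e01806a9adffe6b02f8ec286350699f9ffe80c690be23c3442f9a0ffe469198ed180179440c0ffe23c1811c1f028c511cfffe478508ee4062801822affe450458902dc7584f830ffe2fc1789e2ec2744e09bffe3cc4d09911c0bc4c142ffe510170ba28825c4b08cffe3904a8b9114250170baffe2e05e88b1160b84988bffe2e43288a17219000063ffe4f43105c2200003085cffe16c300e216a17c2f000ffe000000000000c01782e))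
noncomputable def tJ : Tr := (.leaf (nat_lit 0x501e052188b08109108b200c0439209130a0038a420d6102122115ca280f20000359002440a20186001c9048945015e52000908006100ef2140081c00014400040080021000021166810003006600940078006000200000203c01010a0002601000008260014037806800020200001bc02000010b801200429940038400000019804011000980000040000033280100008001002040a2018403000080021000041026010040006600140079480014200004003c82008010c0012806f0000000402000a078000084c0001e500200000001000000600094007146000c200004203802008030b802080401000e008020042e0040008082001c0035ad68000))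
noncomputable def tQ : Tr := (.leaf (nat_lit 0x0))
noncomputable def tR : TC.WTr := (.node r0 r1)
def hl : List ℕ := [3, 4, 5, 6]
def B : List (List ℕ) := [[0, 0], [1, 2], [2, 1], [3, 3], [4, 4], [5, 5], [6, 6], [3, 4, 6], [3, 4, 3, 4], [3, 4, 3, 4], [3, 5, 3, 5, 3, 5, 3, 5, 3, 5, 3, 5, 3, 5, 3, 5], [3, 5, 3, 5, 3, 5, 3, 5, 3, 5, 3, 5, 3, 5, 3, 5], [4, 5, 4, 5, 4, 5, 4, 5], [4, 5, 4, 5, 4, 5, 4, 5], [5, 4, 5, 6, 5, 4, 5, 6], [5, 3, 5, 3, 5, 6, 5, 6], [1, 1, 1, 1, 1, 1, 1, 1, 1, 1], [1, 0, 2, 3], [1, 1, 0, 2, 2, 4], [2, 0, 1, 1, 1, 1, 1, 0, 1, 5], [0, 1, 0, 1, 0, 1, 0, 1, 0, 1, 0, 1, 0, 1, 0, 1], [0, 1, 0, 2, 0, 1, 0, 2], [0, 2, 0, 2, 0, 2, 0, 2, 0, 2, 0, 2, 0, 2, 0, 2], [0, 6, 0, 6], [0, 1, 3, 2, 0, 4], [1, 4, 2, 6, 5, 4, 5], [0, 1, 4, 2, 0, 5, 4, 5], [1, 5, 6, 5, 1, 5, 6, 5], [2, 0, 5, 2, 0, 4, 5, 3], [0, 2, 0, 5, 0, 3, 5, 6, 5]]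
def subs : List (List ℕ) := [[3], [4], [5], [6]]
def ex : List (List ℕ) := []
def inv (x : ℕ) : ℕ := [0, 2, 1, 3, 4, 5, 6].getD x 0
noncomputable def rS : ℕ → ℕ := rowOf tS (nat_lit 8) (nat_lit 255) (nat_lit 88) (nat_lit 309485009821345068724781055)
noncomputable def rJ : ℕ → ℕ := rowOf tJ (nat_lit 8) (nat_lit 255) (nat_lit 45) (nat_lit 35184372088831)
noncomputable def C : TC.Cfg where
  S := look rS (nat_lit 11) (nat_lit 2047)
  J := look rJ (nat_lit 5) (nat_lit 31)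
  Q := lookQ tQ (nat_lit 8) (nat_lit 1) (nat_lit 1)
  R := tR.get
  hl := fun x => hl.contains x
  n := (nat_lit 45)
  M := (nat_lit 45)
  top := (nat_lit 1170)
  nl := (nat_lit 7)
  need := (nat_lit 7)
  nr := (nat_lit 13)
theorem k0 : TC.chkRange C 0 1 = true := by decide +kernel
theorem rows0 : ∀ c < (0 + 1) * 64, c < C.M → TC.chkRow C c = true :=
  TC.rows_step (TC.rows_zero C) k0
theorem main {G : Type*} [Group G] (g : ℕ → G) (hB : ∀ r ∈ B, ev g r = 1) (H : Subgroup G)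
    (hH : ∀ w ∈ subs, ev g w ∈ H) :
    H.relIndex (Subgroup.closure (g '' {x | x < 7})) ≠ 0 ∧
      H.relIndex (Subgroup.closure (g '' {x | x < 7})) ≤ 45 :=
  TC.index_le C B subs ex inv hl tR.hint rfl (by decide +kernel) (by decide +kernel)
    (TC.rows_done rows0 (by decide +kernel)) g hB H hH
end H0.TCM121
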